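import Cfsg.Agent.Lib.TwistedF4Two.Parity
import Cfsg.Agent.Lib.BNPair.NormalSup
import Cfsg.Agent.Lib.PGroups.Frattini
import Cfsg.Agent.Lib.CharSimple

/-!
# The Tits group: index two, order, simplicity

Owner: helper86.
-/

set_option autoImplicit false
set_option maxRecDepth 8000

open Cfsg.Lie Cfsg.Agent.Lib.ChevStructure
open scoped MatrixGroups

namespace Cfsg.Agent.Lib.TwistedF4Two.Tits

open Mat Bruhat Cells Main Parity

theorem ab_hP {L : List ℕ} (hL : ∀ x ∈ L, x < 12) : Main.phi (hP L) ∈ Subgroup.zpowers (Main.phi (hE 1)) := by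
  rw [Main.phi, hP, ab_list, List.map_map]
  · refine Subgroup.list_prod_mem _ fun g hg => ?_
    obtain ⟨k, hk, rfl⟩ := List.mem_map.1 hg
    show Main.phi (hE k) ∈ _
    rw [phi_hE.2 k (hL k hk)]
    split_ifs
    · exact Subgroup.mem_zpowers _
    · exact one_mem _
  · intro g hg
    obtain ⟨k, hk, rfl⟩ := List.mem_map.1 hg
    exact U12_le (hE_mem (List.mem_range.2 (hL k hk)))

theorem ab_gen {g : GL chevF4.Idx (ZMod 2)} {w : List (ℕ × ZMod 2)} (hw : w ∈ f4Words (ZMod 2) 1)
    (hx : (g : Matrix chevF4.Idx chevF4.Idx (ZMod 2)) = chevF4.wordMat (ZMod 2) w) :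
    Main.phi g ∈ Subgroup.zpowers (Main.phi (hE 1)) := by
  have hx' : g = el (ones w) := Units.ext (hx.trans (wordMat_ones w))
  subst hx'
  have hb := baseCert_true
  simp only [baseCert, Bool.and_eq_true] at hb
  obtain ⟨⟨⟨⟨⟨⟨⟨b1, b2⟩, b3⟩, b4⟩, b5⟩, b6⟩, b7⟩, b8⟩ := hb
  have hsi : ∀ i < 2, (el (sw i))⁻¹ = el (sw i) := fun i hi => by
    have hc := List.all_eq_true.1 rankCert_true i (List.mem_range.2 hi)
    simp only [Bool.and_eq_true] at hc
    refine inv_eq_of_mul_eq_one_left ?_
    rw [← el_append, el_eq hc.1.1.1.2, el_nil]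
  have hconj : ∀ i < 2, ∀ L : List ℕ, (∀ x ∈ L, x < 12) →
      Main.phi (el (sw i) * hP L * el (sw i)) ∈ Subgroup.zpowers (Main.phi (hE 1)) := by
    intro i hi L hL
    have e := ab_conj (G := G2F) (sE_mem i) (U12_le (hP_mem fun x hx => List.mem_range.2 (hL x hx)))
    rw [sE, hsi i hi] at e
    rw [Main.phi, e]
    exact ab_hP hL
  have hm := ones_bases hw
  generalize ones w = L at hm
  simp only [bases, List.mem_cons, List.not_mem_nil, or_false] at hm
  rcases hm with rfl | rfl | rfl | rfl | rfl | rfl | rfl | rfl | rfl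
  · rw [el_eq b5, el_hword]; exact ab_hP (by decide)
  · rw [el_eq b1, el_append, el_append, el_hword]; exact hconj 0 (by norm_num) _ (by decide)
  · rw [el_eq b6, el_hword]; exact ab_hP (by decide)
  · rw [el_eq b7, el_hword]; exact ab_hP (by decide)
  · rw [el_eq b2, el_append, el_append, el_hword]; exact hconj 1 (by norm_num) _ (by decide)
  · rw [el_eq b3, el_append, el_append, el_hword]; exact hconj 1 (by norm_num) _ (by decide)
  · rw [el_eq b8, el_hword]; exact ab_hP (by decide)
  · rw [el_eq b4, el_append, el_append, el_hword]; exact hconj 1 (by norm_num) _ (by decide)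
  · rw [el_nil, Main.phi, ab_one]; exact one_mem _

theorem zpowers_eq_top : Subgroup.zpowers (Main.phi (hE 1)) = (⊤ : Subgroup (Abelianization ↥G2F)) := by
  rw [eq_top_iff]
  rintro x -
  obtain ⟨g, rfl⟩ : ∃ g : ↥G2F, Abelianization.of g = x := QuotientGroup.mk_surjective x
  obtain ⟨g, hg⟩ := g
  have e : Abelianization.of (⟨g, hg⟩ : ↥G2F) = ab G2F g := by rw [ab, dif_pos hg]
  rw [e]
  clear e
  induction hg using Subgroup.closure_induction with
  | mem y hy =>
    obtain ⟨w, hw, hy'⟩ := hy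
    exact ab_gen hw hy'
  | one => rw [ab_one]; exact one_mem _
  | mul y z hy hz ihy ihz => rw [ab_mul (G := G2F) hy hz]; exact mul_mem ihy ihz
  | inv y hy ihy =>
    have e := ab_mul (G := G2F) (inv_mem hy) hy
    rw [inv_mul_cancel, ab_one] at e
    rw [show ab G2F y⁻¹ = (ab G2F y)⁻¹ from eq_inv_of_mul_eq_one_left e.symm]
    exact inv_mem ihy

theorem index_two : (commutator ↥G2F).index = 2 := by
  have h : (commutator ↥G2F).index = Nat.card (Subgroup.zpowers (Main.phi (hE 1))) := by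
    rw [zpowers_eq_top, Subgroup.card_top, Subgroup.index_eq_card]
    rfl
  have hdvd : orderOf (Main.phi (hE 1)) ∣ 2 := orderOf_dvd_of_pow_eq_one (by rw [pow_two]; exact phi_hE.1)
  rw [Nat.card_zpowers] at h
  rcases (Nat.dvd_prime Nat.prime_two).1 hdvd with h1 | h1
  · exact absurd (Subgroup.index_eq_one.1 (h.trans h1)) commutator_ne_top
  · exact h.trans h1

theorem card_commutator : Nat.card ↥(commutator ↥G2F) = 2 ^ 11 * 3 ^ 3 * 5 ^ 2 * 13 := by
  have h := (commutator ↥G2F).card_mul_index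
  rw [index_two, card_twoF4] at h
  omega

/-- A nontrivial normal subgroup covers the group modulo a 2-subgroup. -/
theorem exists_sup : ∃ B : Subgroup ↥G2F, IsPGroup 2 B ∧
    ∀ M : Subgroup ↥G2F, M.Normal → M ≠ ⊥ → B ⊔ M = ⊤ := by
  have hK : Fintype.card (ZMod 2) = 2 ^ (2 * 0 + 1) := by rw [ZMod.card]; rfl
  obtain ⟨θ, F⟩ := LieTwisted.Twist.F4.exists_th hK
  have hq : 1 < (LieTwisted.Twist.F4.tw F).q := by
    show 1 < Fintype.card (ZMod 2)
    exact Fintype.one_lt_card
  have hH := LieTwisted.Twist.F4.card_H hK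
  set T := LieTwisted.Twist.F4.tw F with hT
  refine ⟨T.B1, ?_, fun M hM hne => BNPair.sup_normal_eq_top (T.bnPair hq)
    (T.bnPair_irreducible hq (LieTwisted.Twist.F4.conn F))
    (T.core_trivial (LieTwisted.Twist.F4.faithful F)) M hM hne⟩
  suffices h : ∀ b : ↥T.W, b ∈ T.B1 → (b : GL chevF4.Idx (ZMod 2)) ^ 2 ^ 6 = 1 from
    fun b => ⟨6, Subtype.ext (Subtype.ext (h b.1 b.2))⟩
  intro b hbB
  have hb : (b : GL chevF4.Idx (ZMod 2)) ∈ chevF4.borelSubgroup (ZMod 2) := T.mem_B1.1 hbB
  obtain ⟨v, hv, k, hk, e, hfv, hfk⟩ := T.borel_fix hb (T.W_fix _ b.2)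
  have hk1 : k = 1 := by
    have hcard : Nat.card ↥(chevF4.diagonalSubgroup (ZMod 2) ⊓ T.W) = 1 := by
      refine hH.trans ?_
      norm_num
    have := (Nat.card_eq_one_iff_unique.1 hcard).1
    exact congrArg Subtype.val
      (Subsingleton.elim (⟨k, hk, T.diag_mem k hk hfk⟩ : ↥(chevF4.diagonalSubgroup (ZMod 2) ⊓ T.W))
        ⟨1, one_mem _⟩)
  have : Nonempty chevF4.Idx := ⟨Sum.inl ⟨0, by decide⟩⟩
  have h := CF.unipotent_pow hv
  rw [e, hk1, mul_one]
  apply Units.ext
  rw [Units.val_pow_eq_pow_val, Units.val_one]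
  refine sub_eq_zero.1 ?_
  have e2 := sub_pow_char_pow_of_commute 2 6 (Commute.one_right (v : Matrix chevF4.Idx chevF4.Idx (ZMod 2)))
  rw [one_pow] at e2
  rw [← e2]
  exact pow_eq_zero_of_le (by decide) h

theorem commutator_ne_bot : commutator ↥G2F ≠ ⊥ := by
  intro h
  have := card_commutator
  rw [h, Subgroup.card_bot] at this
  norm_num at this

/-- Nontrivial normal subgroups contain the derived subgroup. -/
theorem commutator_le {M : Subgroup ↥G2F} (hM : M.Normal) (hne : M ≠ ⊥) : commutator ↥G2F ≤ M := by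
  have : Fact (Nat.Prime 2) := ⟨Nat.prime_two⟩
  obtain ⟨B, hB, hsup⟩ := exists_sup
  have htop := hsup M hM hne
  let π := QuotientGroup.mk' M
  have hsurj : Function.Surjective (π.comp B.subtype) := by
    intro q
    obtain ⟨g, rfl⟩ := QuotientGroup.mk'_surjective M q
    have hg : g ∈ ((B ⊔ M : Subgroup ↥G2F) : Set ↥G2F) := by rw [htop]; exact Subgroup.mem_top g
    rw [Subgroup.mul_normal B M] at hg
    obtain ⟨x, hx, y, hy, rfl⟩ := Set.mem_mul.1 hg
    exact ⟨⟨x, hx⟩, QuotientGroup.eq.2 (by simpa using hy)⟩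
  have hQ : IsPGroup 2 (↥G2F ⧸ M) := hB.of_surjective _ hsurj
  let g : ↥G2F := ⟨hE 1, U12_le (hE_mem (List.mem_range.2 (by norm_num)))⟩
  have hgen : Subgroup.zpowers g ⊔ commutator ↥G2F = ⊤ := by
    rw [eq_top_iff]
    intro x _
    have hx : Abelianization.of x ∈ Subgroup.zpowers (Abelianization.of g) := by
      have e : Abelianization.of g = Main.phi (hE 1) := by rw [Main.phi, ab, dif_pos g.2]
      rw [e, zpowers_eq_top]; trivial
    obtain ⟨z, hz⟩ := hx
    have hmem : (g ^ z)⁻¹ * x ∈ commutator ↥G2F := by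
      rw [← Abelianization.ker_of, MonoidHom.mem_ker, map_mul, map_inv, map_zpow]
      exact inv_mul_eq_one.2 hz
    have := mul_mem (Subgroup.mem_sup_left (T := commutator ↥G2F) ((Subgroup.zpowers g).zpow_mem
      (Subgroup.mem_zpowers g) z)) (Subgroup.mem_sup_right (S := Subgroup.zpowers g) hmem)
    rwa [mul_inv_cancel_left] at this
  have hgen' : Subgroup.zpowers (π g) = ⊤ := by
    apply frattini_nongenerating
    rw [eq_top_iff]
    calc (⊤ : Subgroup (↥G2F ⧸ M)) = Subgroup.zpowers (π g) ⊔ commutator (↥G2F ⧸ M) := by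
          rw [← MonoidHom.map_zpowers, commutator_def, ← Subgroup.map_top_of_surjective π
            (QuotientGroup.mk'_surjective M), ← Subgroup.map_commutator, ← Subgroup.map_sup,
            ← commutator_def, hgen]
      _ ≤ _ := sup_le_sup_left (PGroups.commutator_le_frattini hQ) _
  have : IsCyclic (↥G2F ⧸ M) := ⟨π g, fun x => show x ∈ Subgroup.zpowers (π g) by rw [hgen']; trivial⟩
  exact Subgroup.Normal.quotient_commutative_iff_commutator_le.mp inferInstance

theorem isSimple : IsSimpleGroup ↥(commutator ↥G2F) := by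
  have : Nontrivial ↥(commutator ↥G2F) := (Subgroup.nontrivial_iff_ne_bot _).2 commutator_ne_bot
  obtain ⟨N, n, -, hsimp, hn, ⟨e⟩⟩ := CharSimple.exists_mulEquiv_pi_of_charSimple ↥(commutator ↥G2F)
    fun H hH => by
      by_cases hb : H = ⊥
      · exact Or.inl hb
      right
      have : H.Characteristic := hH
      have hnormal : (H.map (commutator ↥G2F).subtype).Normal := inferInstance
      have hne : H.map (commutator ↥G2F).subtype ≠ ⊥ := fun h =>
        hb ((Subgroup.map_eq_bot_iff_of_injective _ (commutator ↥G2F).subtype_injective).1 h)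
      refine top_le_iff.1 fun x _ => ?_
      obtain ⟨y, hy, e⟩ := commutator_le hnormal hne x.2
      rwa [← Subtype.ext e]
  have hcard := Nat.card_congr e.toEquiv
  rw [Nat.card_pi, Finset.prod_const, Finset.card_univ, Fintype.card_fin, card_commutator] at hcard
  have hn1 : n = 1 := by
    by_contra hne
    have h13 : 13 ∣ Nat.card ↥N := (Nat.Prime.dvd_of_dvd_pow (by norm_num : Nat.Prime 13)
      (hcard ▸ (by norm_num : (13 : ℕ) ∣ 2 ^ 11 * 3 ^ 3 * 5 ^ 2 * 13)))
    have h2 : 13 ^ 2 ∣ Nat.card ↥N ^ n := (pow_dvd_pow 13 (by omega : 2 ≤ n)).trans (pow_dvd_pow_of_dvd h13 n)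
    rw [← hcard] at h2
    norm_num at h2
  subst hn1
  exact IsSimpleGroup.isSimpleGroup_of_surjective (e.trans (MulEquiv.funUnique (Fin 1) ↥N)).symm.toMonoidHom
    (e.trans (MulEquiv.funUnique (Fin 1) ↥N)).symm.surjective

theorem not_comm : ¬ IsMulCommutative ↥(commutator ↥G2F) := by
  intro h
  have := isSimple
  let : CommGroup ↥(commutator ↥G2F) :=
    { (inferInstance : Group ↥(commutator ↥G2F)) with mul_comm := h.is_comm.comm }
  have hp := IsSimpleGroup.prime_card (α := ↥(commutator ↥G2F))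
  rw [card_commutator] at hp
  exact absurd hp (by norm_num)

end Cfsg.Agent.Lib.TwistedF4Two.Tits
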