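import Cfsg.Agent.Lib.TwistedF4Two.Main
import Cfsg.Agent.Lib.TwistedF4Two.ParityData
import Cfsg.Agent.Lib.LieTwisted.Twist.F4Thms
import Mathlib.GroupTheory.Transfer

/-!
# The parity character of the Sylow 2-subgroup of 2F4(2) and the derived subgroup

`shift_conj`: fusion in 2F4(2) preserves the parity; by transfer the derived subgroup is proper.

Owner: helper86.
-/

set_option autoImplicit false
set_option linter.unusedSectionVars false
set_option maxRecDepth 8000

open Cfsg.Lie Cfsg.Agent.Lib.ChevStructure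
open scoped MatrixGroups

namespace Cfsg.Agent.Lib.TwistedF4Two.Parity

open Mat Bruhat Cells Main

/-- The functional. -/
def gO (x : ℕ) : Bool := (x.testBit 10 ^^ x.testBit 21) ^^ x.testBit 27

/-- The certificate of the orbit. -/
def orbCert : Bool :=
  (List.range 128).all fun i => (ParityData.orb.getD i 0 < 2 ^ 52 : Bool) && (List.range 12).all fun k =>
    let j := (ParityData.orbNext.getD i []).getD k 0
    decide (j < 128) && Nat.beq (vmul (ParityData.orb.getD i 0) (Data.hMat.getD k 0) 52) (ParityData.orb.getD j 0) &&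
      (gO (ParityData.orb.getD j 0) == (gO (ParityData.orb.getD i 0) ^^ isA k))

theorem orbCert_true : orbCert = true := by decide +kernel

/-- `u` moves every point of the orbit to one whose functional differs by `b`. -/
def Shift (u : GL chevF4.Idx (ZMod 2)) (b : Bool) : Prop :=
  ∀ i < 128, ∃ j < 128, Matrix.vecMul (bV (ParityData.orb.getD i 0)) (T52 u) = bV (ParityData.orb.getD j 0) ∧
    gO (ParityData.orb.getD j 0) = (gO (ParityData.orb.getD i 0) ^^ b)

theorem orb_lt {i : ℕ} (hi : i < 128) : ParityData.orb.getD i 0 < 2 ^ 52 := by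
  have h := List.all_eq_true.1 orbCert_true i (List.mem_range.2 hi)
  simp only [Bool.and_eq_true, decide_eq_true_eq] at h
  exact h.1

theorem shift_one : Shift 1 false := fun i hi => ⟨i, hi, by rw [T52_one, Matrix.vecMul_one], by simp⟩

theorem shift_mul {u v : GL chevF4.Idx (ZMod 2)} {b c : Bool} (hu : Shift u b) (hv : Shift v c) :
    Shift (u * v) (b ^^ c) := by
  intro i hi
  obtain ⟨j, hj, e, hg⟩ := hu i hi
  obtain ⟨k, hk, e', hg'⟩ := hv j hj
  exact ⟨k, hk, by rw [T52_mul, ← Matrix.vecMul_vecMul, e, e'], by rw [hg', hg, Bool.xor_assoc]⟩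

theorem shift_unique {u : GL chevF4.Idx (ZMod 2)} {b c : Bool} (hb : Shift u b) (hc : Shift u c) : b = c := by
  obtain ⟨j, hj, e, hg⟩ := hb 0 (by norm_num)
  obtain ⟨k, hk, e', hg'⟩ := hc 0 (by norm_num)
  have h := bV_inj (orb_lt hj) (orb_lt hk) (e.symm.trans e')
  rw [h, hg'] at hg
  revert hg
  cases b <;> cases c <;> simp

theorem shift_hE {k : ℕ} (hk : k < 12) : Shift (hE k) (isA k) := by
  intro i hi
  have h := List.all_eq_true.1 orbCert_true i (List.mem_range.2 hi)
  simp only [Bool.and_eq_true, List.all_eq_true, decide_eq_true_eq, beq_iff_eq] at h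
  obtain ⟨⟨hj, he⟩, hg⟩ := h.2 k (List.mem_range.2 hk)
  refine ⟨_, hj, ?_, hg⟩
  have hm := List.all_eq_true.1 hMat_true k (List.mem_range.2 hk)
  simp only [Bool.and_eq_true] at hm
  rw [← Nat.eq_of_beq_eq_true he, ← Nat.eq_of_beq_eq_true hm.2, hE, T52_el hm.1]
  exact (vmul_spec _ _).symm

theorem exists_shift {u : GL chevF4.Idx (ZMod 2)} (hu : u ∈ U12) : ∃ b, Shift u b := by
  have h : u ∈ Submonoid.closure {g | ∃ k ∈ List.range 12, g = hE k} := by
    rw [← Subgroup.closure_toSubmonoid_of_finite]; exact hu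
  induction h using Submonoid.closure_induction with
  | mem x hx => obtain ⟨k, hk, rfl⟩ := hx; exact ⟨_, shift_hE (List.mem_range.1 hk)⟩
  | one => exact ⟨_, shift_one⟩
  | mul x y hx hy ihx ihy =>
    have hle : ∀ z ∈ Submonoid.closure {g | ∃ k ∈ List.range 12, g = hE k}, z ∈ U12 := fun z hz =>
      (Submonoid.closure_le (S := U12.toSubmonoid)).2 Subgroup.subset_closure hz
    obtain ⟨b, hb⟩ := ihx (hle x hx)
    obtain ⟨c, hc⟩ := ihy (hle y hy)
    exact ⟨_, shift_mul hb hc⟩

theorem shift_hP : ∀ {L : List ℕ}, (∀ x ∈ L, x < 12) → Shift (hP L) (L.foldr (fun x b => isA x ^^ b) false)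
  | [], _ => shift_one
  | k :: L, h => by
    have := shift_mul (shift_hE (h k (List.mem_cons_self ..)))
      (shift_hP fun x hx => h x (List.mem_cons_of_mem _ hx))
    simpa [hP] using this

theorem shift_inv {u : GL chevF4.Idx (ZMod 2)} (hu : u ∈ U12) {b : Bool} (h : Shift u b) : Shift u⁻¹ b := by
  obtain ⟨c, hc⟩ := exists_shift (inv_mem hu)
  have e := shift_mul h hc
  rw [mul_inv_cancel] at e
  have := shift_unique e shift_one
  revert this
  cases b <;> cases c <;> simp <;> exact hc

/-- Conjugation inside `U` preserves the parity. -/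
theorem shift_conjU {u v : GL chevF4.Idx (ZMod 2)} (hv : v ∈ U12) {b : Bool} (h : Shift u b) :
    Shift (v⁻¹ * u * v) b := by
  obtain ⟨c, hc⟩ := exists_shift hv
  have e := shift_mul (shift_mul (shift_inv hv hc) h) hc
  rwa [show ((c ^^ b) ^^ c) = b by cases b <;> cases c <;> rfl] at e

theorem card_twoF4 : Nat.card G2F = 35942400 := by
  have h := LieTwisted.Twist.F4.card_twisted (K := ZMod 2) (m := 0) (by rw [ZMod.card]; rfl)
  simpa using h

theorem length_allB : ∀ n, (allB n).length = 2 ^ n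
  | 0 => rfl
  | n + 1 => by simp [allB, List.length_flatMap, length_allB n, pow_succ]

theorem card_U12_le : Nat.card U12 ≤ 4096 := by
  have hlen : (allB 12).length = 4096 := length_allB 12
  have hs : (U12 : Set (GL chevF4.Idx (ZMod 2))) ⊆ ↑((allB 12).map prodB).toFinset := fun u hu => by
    obtain ⟨bs, hbs, rfl⟩ := nf_prodB hu
    exact List.mem_toFinset.2 (List.mem_map.2 ⟨bs, hbs, rfl⟩)
  calc Nat.card U12 = (U12 : Set (GL chevF4.Idx (ZMod 2))).ncard := Nat.card_coe_set_eq _
    _ ≤ (((allB 12).map prodB).toFinset : Set (GL chevF4.Idx (ZMod 2))).ncard :=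
      Set.ncard_le_ncard hs (Finset.finite_toSet _)
    _ = ((allB 12).map prodB).toFinset.card := Set.ncard_coe_finset _
    _ ≤ ((allB 12).map prodB).length := List.toFinset_card_le _
    _ = 4096 := by rw [List.length_map, hlen]

theorem index_odd : ¬ 2 ∣ (U12.subgroupOf G2F).index := by
  classical
  let X := ↥G2F ⧸ U12.subgroupOf G2F
  have : Fact (Nat.Prime 2) := ⟨Nat.prime_two⟩
  have hP : IsPGroup 2 (U12.subgroupOf G2F) :=
    isPGroup_U12.of_equiv (Subgroup.subgroupOfEquivOfLe U12_le).symm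
  have hcard : Nat.card (MulAction.fixedPoints (U12.subgroupOf G2F) X) = 1 := by
    rw [Nat.card_eq_one_iff_unique]
    refine ⟨⟨?_⟩, ⟨⟨((1 : G2F) : X), fun u => ?_⟩⟩⟩
    · rintro ⟨x, hx⟩ ⟨y, hy⟩
      have key : ∀ z : X, z ∈ MulAction.fixedPoints (U12.subgroupOf G2F) X → z = ((1 : G2F) : X) := by
        intro z hz
        obtain ⟨g, rfl⟩ := QuotientGroup.mk_surjective z
        have hg : (g : GL chevF4.Idx (ZMod 2)) ∈ U12 := by
          refine fix_coset g.2 fun u hu => ?_
          have h := hz ⟨⟨u⁻¹, U12_le (inv_mem hu)⟩, inv_mem hu⟩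
          change (QuotientGroup.mk ((⟨u⁻¹, U12_le (inv_mem hu)⟩ : G2F) * g) : X) = QuotientGroup.mk g at h
          rw [QuotientGroup.eq, Subgroup.mem_subgroupOf] at h
          simpa [mul_assoc] using h
        rw [QuotientGroup.eq, Subgroup.mem_subgroupOf]
        simpa using inv_mem hg
      exact Subtype.ext ((key x hx).trans (key y hy).symm)
    · change (QuotientGroup.mk ((u : G2F) * 1) : X) = QuotientGroup.mk 1
      rw [QuotientGroup.eq, mul_one, mul_one, Subgroup.mem_subgroupOf]
      exact inv_mem u.2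
  have h := hP.card_modEq_card_fixedPoints (p := 2) X
  rw [hcard] at h
  have h' : Nat.card (↥G2F ⧸ U12.subgroupOf G2F) % 2 = 1 % 2 := h
  rw [Subgroup.index_eq_card]
  omega

theorem card_U12 : Nat.card U12 = 4096 := by
  refine le_antisymm card_U12_le (Nat.le_of_dvd Nat.card_pos ?_)
  have h := (U12.subgroupOf G2F).card_mul_index
  rw [Nat.card_congr (Subgroup.subgroupOfEquivOfLe U12_le).toEquiv, card_twoF4] at h
  have hco : Nat.Coprime 4096 (U12.subgroupOf G2F).index :=
    Nat.Coprime.pow_left 12 ((Nat.Prime.coprime_iff_not_dvd Nat.prime_two).2 index_odd)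
  exact hco.dvd_of_dvd_mul_right (h ▸ (by norm_num : (4096 : ℕ) ∣ 35942400))

theorem prodB_injOn : Set.InjOn prodB {bs | bs ∈ allB 12} := by
  classical
  have hs : (U12 : Set (GL chevF4.Idx (ZMod 2))) ⊆ prodB '' ↑(allB 12).toFinset := fun u hu => by
    obtain ⟨bs, hbs, rfl⟩ := nf_prodB hu
    exact ⟨bs, by simpa using hbs, rfl⟩
  have hle : (allB 12).toFinset.card ≤ ((allB 12).toFinset.image prodB).card := by
    calc (allB 12).toFinset.card ≤ (allB 12).length := List.toFinset_card_le _
      _ = 4096 := length_allB 12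
      _ = (U12 : Set (GL chevF4.Idx (ZMod 2))).ncard := by rw [← Nat.card_coe_set_eq]; exact card_U12.symm
      _ ≤ (prodB '' ↑(allB 12).toFinset).ncard := Set.ncard_le_ncard hs ((Finset.finite_toSet _).image _)
      _ = _ := by rw [← Finset.coe_image, Set.ncard_coe_finset]
  have h := Finset.card_image_iff.1 (le_antisymm Finset.card_image_le hle)
  intro a ha b hb e
  exact h (by simpa using ha) (by simpa using hb) e

/-- The positive indices of a Weyl element. -/
def posI (k : ℕ) : List ℕ := (List.range 12).filter fun j => ((ParityData.wConj.getD k []).getD j (false, [])).1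

/-- The negative indices of a Weyl element. -/
def negI (k : ℕ) : List ℕ := (List.range 12).filter fun j => !((ParityData.wConj.getD k []).getD j (false, [])).1

/-- The certificate of the conjugations by Weyl elements. -/
def wCert : Bool := (List.range 16).all fun k => (List.range 12).all fun j =>
  let p := (ParityData.wConj.getD k []).getD j (false, [])
  if p.1 then
    same (hw j ++ ww k) (ww k ++ hword p.2) && p.2.all (fun x => decide (x < 12)) &&
      (p.2.foldr (fun x b => isA x ^^ b) false == isA j)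
  else same (hw j ++ ww k) (ww k ++ p.2) && p.2.all (fun r => decide (r < 24))

theorem wCert_true : wCert = true := by decide +kernel

/-- The masks supported on a list of indices. -/
def maskS (S : List ℕ) : List (List Bool) :=
  (allB 12).filter fun bs => (bs.zip (List.range 12)).all fun p => !p.1 || S.contains p.2

/-- The certificate of the counting. -/
def cntCert : Bool := (List.range 16).all fun k =>
  Nat.beq ((maskS (posI k)).length * (maskS (negI k)).length) 4096

theorem cntCert_true : cntCert = true := by decide +kernel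

theorem nodup_allB : (allB 12).Nodup := by
  have key : ∀ n, (allB n).Nodup := by
    intro n
    induction n with
    | zero => simp [allB]
    | succ n ih =>
      rw [allB, List.nodup_flatMap]
      refine ⟨fun l _ => by simp, List.Pairwise.imp (R := (· ≠ ·)) (fun {a b} h => ?_) ih⟩
      intro x hx hx'
      simp at hx hx'
      rcases hx with rfl | rfl <;> rcases hx' with h' | h' <;> simp_all
  exact key 12

theorem maskS_le_card (S : List ℕ) (hS : ∀ j ∈ S, j < 12) :
    (maskS S).length ≤ Nat.card (UG S) := by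
  classical
  have hmem : ∀ bs ∈ maskS S, prodB bs ∈ UG S := by
    intro bs hbs
    simp only [maskS, List.mem_filter, List.all_eq_true, Bool.or_eq_true, List.contains_iff_mem] at hbs
    unfold prodB
    refine Subgroup.list_prod_mem _ fun g hg => ?_
    rw [List.mem_map] at hg
    obtain ⟨⟨b, k⟩, hp, rfl⟩ := hg
    cases b
    · exact one_mem _
    · rcases hbs.2 _ hp with h | h
      · simp at h
      · exact hE_mem h
  have hnd : ((maskS S).map prodB).Nodup := by
    refine List.Nodup.map_on (fun a ha b hb e => ?_) (nodup_allB.filter _)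
    exact prodB_injOn (List.mem_filter.1 ha).1 (List.mem_filter.1 hb).1 e
  calc (maskS S).length = ((maskS S).map prodB).toFinset.card := by
        rw [List.toFinset_card_of_nodup hnd, List.length_map]
    _ = (((maskS S).map prodB).toFinset : Set (GL chevF4.Idx (ZMod 2))).ncard := (Set.ncard_coe_finset _).symm
    _ ≤ (UG S : Set (GL chevF4.Idx (ZMod 2))).ncard := by
        refine Set.ncard_le_ncard (fun g hg => ?_) (Set.toFinite _)
        obtain ⟨bs, hbs, rfl⟩ := List.mem_map.1 (List.mem_toFinset.1 hg)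
        exact hmem bs hbs
    _ = _ := (Nat.card_coe_set_eq _).symm

theorem pos_conj {k : ℕ} (hk : k < 16) {y : GL chevF4.Idx (ZMod 2)} (hy : y ∈ UG (posI k)) :
    (wE k)⁻¹ * y * wE k ∈ U12 ∧ ∀ b, Shift y b → Shift ((wE k)⁻¹ * y * wE k) b := by
  have hsub : ∀ z, z ∈ UG (posI k) → z ∈ U12 := fun z hz =>
    UG_mono (fun x hx => (List.mem_filter.1 hx).1) hz
  have h : y ∈ Submonoid.closure {g | ∃ j ∈ posI k, g = hE j} := by
    rw [← Subgroup.closure_toSubmonoid_of_finite]; exact hy
  clear hy
  induction h using Submonoid.closure_induction with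
  | mem x hx =>
    obtain ⟨j, hj, rfl⟩ := hx
    simp only [posI, List.mem_filter, List.mem_range] at hj
    have hc := List.all_eq_true.1 (List.all_eq_true.1 wCert_true k (List.mem_range.2 hk)) j (List.mem_range.2 hj.1)
    simp only [hj.2, if_true, Bool.and_eq_true, List.all_eq_true, decide_eq_true_eq, beq_iff_eq] at hc
    obtain ⟨⟨e, hL⟩, hp⟩ := hc
    have e' := el_eq e
    rw [el_append, el_append, el_hword] at e'
    have e2 : (wE k)⁻¹ * hE j * wE k = hP ((ParityData.wConj.getD k []).getD j (false, [])).2 := by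
      rw [mul_assoc, wE, hE, e', inv_mul_cancel_left]
    rw [e2]
    refine ⟨hP_mem fun x hx => List.mem_range.2 (hL x hx), fun b hb => ?_⟩
    rw [shift_unique hb (shift_hE hj.1), ← hp]
    exact shift_hP hL
  | one =>
    exact ⟨by simp, fun b hb => by rw [shift_unique hb shift_one]; simpa using shift_one⟩
  | mul x x' hx hx' ihx ihy =>
    have e : (wE k)⁻¹ * (x * x') * wE k = ((wE k)⁻¹ * x * wE k) * ((wE k)⁻¹ * x' * wE k) := by group
    rw [e]
    refine ⟨mul_mem ihx.1 ihy.1, fun b hb => ?_⟩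
    have hle : ∀ z ∈ Submonoid.closure {g | ∃ j ∈ posI k, g = hE j}, z ∈ U12 := fun z hz =>
      hsub z ((Submonoid.closure_le (S := (UG (posI k)).toSubmonoid)).2 Subgroup.subset_closure hz)
    obtain ⟨c, hc⟩ := exists_shift (hle x hx)
    obtain ⟨c', hc'⟩ := exists_shift (hle x' hx')
    rw [shift_unique hb (shift_mul hc hc')]
    exact shift_mul (ihx.2 c hc) (ihy.2 c' hc')

theorem neg_conj {k : ℕ} (hk : k < 16) {y : GL chevF4.Idx (ZMod 2)} (hy : y ∈ UG (negI k))
    (h : (wE k)⁻¹ * y * wE k ∈ U12) : y = 1 := by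
  have hle : UG (negI k) ≤ (CF.US (ZMod 2) CF.Neg).comap (MulAut.conj (wE k)⁻¹).toMonoidHom := by
    refine (Subgroup.closure_le _).2 ?_
    rintro g ⟨j, hj, rfl⟩
    simp only [negI, List.mem_filter, List.mem_range, Bool.not_eq_true'] at hj
    have hc := List.all_eq_true.1 (List.all_eq_true.1 wCert_true k (List.mem_range.2 hk)) j (List.mem_range.2 hj.1)
    simp only [hj.2, Bool.false_eq_true, if_false, Bool.and_eq_true, List.all_eq_true, decide_eq_true_eq] at hc
    obtain ⟨e, hL⟩ := hc
    have e' := el_eq e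
    rw [el_append, el_append] at e'
    show (wE k)⁻¹ * hE j * ((wE k)⁻¹)⁻¹ ∈ CF.US (ZMod 2) CF.Neg
    rw [inv_inv, mul_assoc, wE, hE, e', inv_mul_cancel_left]
    exact el_mem_US fun r hr => ⟨lt_trans (hL r hr) (by norm_num), by
      show 2 * r < 48
      have := hL r hr
      omega⟩
  have h1 : (wE k)⁻¹ * y * wE k ∈ CF.US (ZMod 2) CF.Neg := by
    have := hle hy
    rwa [Subgroup.mem_comap, MulEquiv.coe_toMonoidHom, MulAut.conj_apply, inv_inv] at this
  have h2 : (wE k)⁻¹ * y * wE k ∈ (⊥ : Subgroup _) := by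
    rw [← CF.borel_inf_negUS]
    exact Subgroup.mem_inf.2 ⟨CF.posUS_le_borel (U12_le_pos h), h1⟩
  rw [Subgroup.mem_bot] at h2
  calc y = wE k * ((wE k)⁻¹ * y * wE k) * (wE k)⁻¹ := by group
    _ = 1 := by rw [h2]; group

theorem exists_mul_of_card {H : Type*} [Group H] [Finite H] {U A B : Subgroup H} (hA : A ≤ U) (hB : B ≤ U)
    (hdis : ∀ x ∈ A, x ∈ B → x = 1) (hcard : Nat.card U ≤ Nat.card A * Nat.card B) {y : H} (hy : y ∈ U) :
    ∃ a ∈ A, ∃ n ∈ B, y = a * n := by
  let f : ↥A × ↥B → ↥U := fun p => ⟨(p.1 : H) * (p.2 : H), mul_mem (hA p.1.2) (hB p.2.2)⟩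
  have hinj : Function.Injective f := by
    rintro ⟨⟨a, ha⟩, ⟨n, hn⟩⟩ ⟨⟨a', ha'⟩, ⟨n', hn'⟩⟩ e
    have e' : a * n = a' * n' := congrArg Subtype.val e
    have h1 : a'⁻¹ * a = n' * n⁻¹ := by
      rw [eq_mul_inv_iff_mul_eq, mul_assoc, e', inv_mul_cancel_left]
    have h2 : n' * n⁻¹ = 1 :=
      hdis _ (h1 ▸ mul_mem (inv_mem ha') ha) (mul_mem hn' (inv_mem hn))
    rw [h2, inv_mul_eq_one] at h1
    rw [mul_inv_eq_one] at h2
    exact Prod.ext (Subtype.ext h1.symm) (Subtype.ext h2.symm)
  obtain ⟨⟨⟨a, ha⟩, ⟨n, hn⟩⟩, e⟩ :=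
    (hinj.bijective_of_nat_card_le (hcard.trans_eq (Nat.card_prod _ _).symm)).2 ⟨y, hy⟩
  exact ⟨a, ha, n, hn, (congrArg Subtype.val e).symm⟩

/-- `U` is the product of the positive and the negative part of a Weyl element. -/
theorem exists_pos_neg {k : ℕ} (hk : k < 16) {y : GL chevF4.Idx (ZMod 2)} (hy : y ∈ U12) :
    ∃ a ∈ UG (posI k), ∃ n ∈ UG (negI k), y = a * n := by
  refine exists_mul_of_card (UG_mono fun x hx => (List.mem_filter.1 hx).1)
    (UG_mono fun x hx => (List.mem_filter.1 hx).1) (fun x hA hB => neg_conj hk hB (pos_conj hk hA).1) ?_ hy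
  have h := Nat.eq_of_beq_eq_true (List.all_eq_true.1 cntCert_true k (List.mem_range.2 hk))
  rw [card_U12, ← h]
  exact Nat.mul_le_mul (maskS_le_card _ fun j hj => List.mem_range.1 (List.mem_filter.1 hj).1)
    (maskS_le_card _ fun j hj => List.mem_range.1 (List.mem_filter.1 hj).1)

/-- Fusion preserves the parity. -/
theorem shift_conj {u g : GL chevF4.Idx (ZMod 2)} (hu : u ∈ U12) (hg : g ∈ G2F)
    (h : g⁻¹ * u * g ∈ U12) {b : Bool} (hb : Shift u b) : Shift (g⁻¹ * u * g) b := by
  obtain ⟨x, hx, k, hk, v, hv, rfl⟩ := mem_M16 hg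
  obtain ⟨y, hydef⟩ : ∃ y, y = x⁻¹ * u * x := ⟨_, rfl⟩
  have hy : y ∈ U12 := hydef ▸ mul_mem (mul_mem (inv_mem hx) hu) hx
  have e : (x * wE k * v)⁻¹ * u * (x * wE k * v) = v⁻¹ * ((wE k)⁻¹ * y * wE k) * v := by
    rw [hydef]; group
  rw [e] at h ⊢
  refine shift_conjU hv ?_
  have h' : (wE k)⁻¹ * y * wE k ∈ U12 := by
    have := mul_mem (mul_mem hv h) (inv_mem hv)
    rwa [show v * (v⁻¹ * ((wE k)⁻¹ * y * wE k) * v) * v⁻¹ = (wE k)⁻¹ * y * wE k by group] at this
  obtain ⟨a, ha, n, hn, hyan⟩ := exists_pos_neg hk hy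
  obtain ⟨h1, h2⟩ := pos_conj hk ha
  have hn1 : n = 1 := by
    refine neg_conj hk hn ?_
    have := mul_mem (inv_mem h1) h'
    rwa [show ((wE k)⁻¹ * a * wE k)⁻¹ * ((wE k)⁻¹ * y * wE k) = (wE k)⁻¹ * (a⁻¹ * y) * wE k by group,
      hyan, inv_mul_cancel_left] at this
  rw [hyan, hn1, mul_one]
  have hyb : Shift y b := hydef ▸ shift_conjU hx hb
  rw [hyan, hn1, mul_one] at hyb
  exact h2 b hyb

/-- The parity as a character. -/
noncomputable def lam : ↥(U12.subgroupOf G2F) →* Multiplicative (ZMod 2) :=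
  MonoidHom.mk' (fun u => Multiplicative.ofAdd (bit2 (exists_shift u.2).choose)) fun u v => by
    rw [← ofAdd_add, ← bit2_xor]
    exact congrArg (fun b => Multiplicative.ofAdd (bit2 b))
      (shift_unique (exists_shift (u * v).2).choose_spec
        (shift_mul (exists_shift u.2).choose_spec (exists_shift v.2).choose_spec))

theorem lam_eq {u : ↥(U12.subgroupOf G2F)} {b : Bool}
    (h : Shift ((u : ↥G2F) : GL chevF4.Idx (ZMod 2)) b) : lam u = Multiplicative.ofAdd (bit2 b) :=
  congrArg (fun b => Multiplicative.ofAdd (bit2 b)) (shift_unique (exists_shift u.2).choose_spec h)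

/-- Transfer: a character invariant under fusion is a power of a character of the whole group. -/
theorem map_pow_index_eq_one {G A : Type*} [Group G] [Finite G] [CommGroup A] (H : Subgroup G) (f : ↥H →* A)
    (hinv : ∀ (x y : ↥H) (g : G), g⁻¹ * (x : G) * g = (y : G) → f x = f y) (htop : commutator G = ⊤)
    (x : ↥H) : f x ^ H.index = 1 := by
  classical
  set g : G := (x : G)
  have : H.FiniteIndex := inferInstance
  have hk : MonoidHom.transfer f g = 1 :=
    (Abelianization.commutator_subset_ker (MonoidHom.transfer f)) (htop ▸ Subgroup.mem_top g)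
  let := Fintype.ofFinite (Quotient (MulAction.orbitRel (Subgroup.zpowers g) (G ⧸ H)))
  let := Fintype.ofFinite (G ⧸ H)
  rw [MonoidHom.transfer_eq_prod_quotient_orbitRel_zpowers_quot] at hk
  have hterm : ∀ q : Quotient (MulAction.orbitRel (Subgroup.zpowers g) (G ⧸ H)),
      f ⟨q.out.out⁻¹ * g ^ Function.minimalPeriod (g • ·) q.out * q.out.out,
        QuotientGroup.out_conj_pow_minimalPeriod_mem H g q.out⟩ =
      f x ^ Function.minimalPeriod (g • ·) q.out := by
    intro q
    rw [← map_pow]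
    exact (hinv (x ^ Function.minimalPeriod (g • ·) q.out) ⟨_, _⟩ q.out.out (by simp [g])).symm
  rw [Finset.prod_congr rfl fun q _ => hterm q, Finset.prod_pow_eq_pow_sum] at hk
  have hsum : ∑ q : Quotient (MulAction.orbitRel (Subgroup.zpowers g) (G ⧸ H)),
      Function.minimalPeriod (g • ·) q.out = H.index := by
    rw [Subgroup.index_eq_card, Nat.card_congr (MulAction.selfEquivSigmaOrbits (Subgroup.zpowers g) (G ⧸ H)),
      Nat.card_sigma]
    exact Finset.sum_congr rfl fun q _ => by
      rw [MulAction.minimalPeriod_eq_card, ← Nat.card_eq_fintype_card]; rfl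
  rwa [hsum] at hk

/-- The derived subgroup of 2F4(2) is proper. -/
theorem commutator_ne_top : commutator ↥G2F ≠ ⊤ := by
  intro htop
  have h1 : hE 1 ∈ U12 := hE_mem (List.mem_range.2 (by norm_num))
  let x : ↥(U12.subgroupOf G2F) := ⟨⟨hE 1, U12_le h1⟩, h1⟩
  have hinv : ∀ (u v : ↥(U12.subgroupOf G2F)) (g : ↥G2F), g⁻¹ * (u : ↥G2F) * g = (v : ↥G2F) → lam u = lam v := by
    intro u v g e
    obtain ⟨b, hb⟩ := exists_shift u.2
    have e' := congrArg Subtype.val e
    simp only [Subgroup.coe_mul, Subgroup.coe_inv] at e'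
    rw [lam_eq hb, lam_eq (u := v) (b := b) (e' ▸ shift_conj u.2 g.2 (e' ▸ v.2) hb)]
  have hk := map_pow_index_eq_one (U12.subgroupOf G2F) lam hinv htop x
  rw [lam_eq (u := x) (b := true) (shift_hE (k := 1) (by norm_num)), ← ofAdd_nsmul] at hk
  have h2 : ((U12.subgroupOf G2F).index : ZMod 2) = 0 := by
    have := congrArg Multiplicative.toAdd hk
    simpa [bit2] using this
  exact index_odd ((ZMod.natCast_eq_zero_iff_even.1 h2).two_dvd)

end Cfsg.Agent.Lib.TwistedF4Two.Parity
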